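import Cfsg.Agent.Lib.A4Stab.Count

/-!
# The order formula for a four group on an odd group
-/

set_option autoImplicit false
set_option linter.style.haveILetI false

namespace Cfsg.Lib.J2Syl

open Cfsg Cfsg.Lib Subgroup
open Cfsg.Lib.A4Stab (card_eq_fixed_mul_inverted mem_of_odd_orderOf odd_orderOf_of_mem eq_of_odd_sq)

universe u

/-- Brauer's order formula, for a normal odd subgroup. -/
theorem four_count_normal {G : Type u} [Group G] [Finite G] (O : Subgroup G) [O.Normal] (hO : Odd (Nat.card O))
    {t v : G} (ht : orderOf t = 2) (hv : orderOf v = 2) (htv : Commute t v) :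
    Nat.card O * Nat.card ↥(O ⊓ centralizer ({t, v} : Set G)) ^ 2 =
      Nat.card ↥(O ⊓ centralizer ({t} : Set G)) * (Nat.card ↥(O ⊓ centralizer ({v} : Set G)) *
        Nat.card ↥(O ⊓ centralizer ({v * t} : Set G))) := by
  have htt : t * t = 1 := Invol.inv_mul_self ht
  have hvv : v * v = 1 := Invol.inv_mul_self hv
  obtain ⟨s₁, hs₁⟩ : ∃ s, s = Nat.card {k : G // k ∈ O ⊓ centralizer ({v * t} : Set G) ∧ t * k * t⁻¹ = k⁻¹} :=
    ⟨_, rfl⟩
  obtain ⟨s₂, hs₂⟩ : ∃ s, s = Nat.card {k : G // k ∈ O ⊓ centralizer ({v} : Set G) ∧ t * k * t⁻¹ = k⁻¹} :=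
    ⟨_, rfl⟩
  have key : ∀ w : G, Commute t w → (∀ k : G, Commute k t → (Commute k w ↔ Commute k v)) →
      Nat.card ↥(O ⊓ centralizer ({w} : Set G)) =
        Nat.card ↥(O ⊓ centralizer ({t, v} : Set G)) *
          Nat.card {k : G // k ∈ O ⊓ centralizer ({w} : Set G) ∧ t * k * t⁻¹ = k⁻¹} := by
    intro w htw hw
    have h := card_eq_fixed_mul_inverted (O ⊓ centralizer ({w} : Set G)) (hO.of_dvd_nat (card_dvd_of_le inf_le_left))
      ht fun a ha => mem_inf.2 ⟨(inferInstance : O.Normal).conj_mem a ha.1 t, mul_mem (mul_mem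
        (mem_centralizer_singleton_iff.2 htw.eq) ha.2) (inv_mem (mem_centralizer_singleton_iff.2 htw.eq))⟩
    rw [h]
    congr 2
    refine congrArg _ ?_
    ext k
    simp only [mem_inf, mem_centralizer_singleton_iff, mem_centralizer_iff, Set.mem_insert_iff,
      Set.mem_singleton_iff, forall_eq_or_imp, forall_eq]
    constructor
    · rintro ⟨⟨h1, h2⟩, h3⟩
      exact ⟨h1, h3, ((hw k h3.symm).1 h2.symm).eq.symm⟩
    · rintro ⟨h1, h2, h3⟩
      exact ⟨⟨h1, ((hw k h2.symm).2 h3.symm).eq.symm⟩, h2⟩
  have k1 := key (v * t) ((htv.mul_right (Commute.refl t))) fun k hk =>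
    ⟨fun h => by simpa [mul_assoc, htt] using h.mul_right hk, fun h => h.mul_right hk⟩
  have k2 := key v htv fun k _ => Iff.rfl
  rw [← hs₁] at k1
  rw [← hs₂] at k2
  have hI : Nat.card {k : G // k ∈ O ∧ t * k * t⁻¹ = k⁻¹} = s₁ * s₂ := by
    set π := QuotientGroup.mk' O with hπ
    set K := closure ({π t, π v} : Set (G ⧸ O)) with hK
    have hKc : K ≤ centralizer (K : Set (G ⧸ O)) := by
      have h0 : ({π t, π v} : Set (G ⧸ O)) ⊆ centralizer ({π t, π v} : Set (G ⧸ O)) := by
        intro a ha
        refine mem_centralizer_iff.2 fun b hb => ?_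
        rcases ha with rfl | rfl <;> rcases hb with rfl | rfl <;>
          first
            | rfl
            | exact (htv.map π).eq
            | exact (htv.symm.map π).eq
      rw [hK, closure_le, centralizer_closure]
      exact h0
    have hKsq : ∀ y ∈ K, y * y = 1 := fun y hy => by
      induction hy using closure_induction with
      | mem a ha =>
        rcases ha with rfl | rfl
        · rw [← map_mul, htt, map_one]
        · rw [← map_mul, hvv, map_one]
      | one => exact one_mul 1
      | mul a b ha hb iha ihb =>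
        have hc : Commute a b := mem_centralizer_iff.1 (hKc hb) a ha
        rw [hc.symm.mul_mul_mul_comm, iha, ihb, one_mul]
      | inv a _ iha => rw [← mul_inv_rev, iha, inv_one]
    set M := K.comap π with hM
    have htM : t ∈ M := mem_comap.2 (subset_closure (by simp))
    have hvM : v ∈ M := mem_comap.2 (subset_closure (by simp))
    have hOM : O ≤ M := fun x hx => by
      rw [hM, mem_comap, show π x = 1 from (QuotientGroup.eq_one_iff x).2 hx]
      exact one_mem _
    have hsq : ∀ x ∈ M, x * x ∈ O := fun x hx =>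
      (QuotientGroup.eq_one_iff _).1 (show π (x * x) = 1 by rw [map_mul]; exact hKsq _ hx)
    have hiso : IsIsolatedInvolution (⟨t, htM⟩ : M) := by
      refine ⟨by rw [Subgroup.orderOf_mk, ht], fun g hg => Subtype.ext ?_⟩
      have hg' : Commute t ((g : G) * t * (g : G)⁻¹) := congrArg Subtype.val hg
      show (g : G) * t * (g : G)⁻¹ = t
      have hc : π (g : G) * π t = π t * π (g : G) := mem_centralizer_iff.1 (hKc htM) _ g.2
      set u := (g : G) * t * (g : G)⁻¹ with hu
      have huA : u * t ∈ O := (QuotientGroup.eq_one_iff _).1 (show π (u * t) = 1 by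
        rw [hu, map_mul, map_mul, map_mul, map_inv, hc, mul_inv_cancel_right, ← map_mul, htt, map_one])
      have huu : u * u = 1 := by
        rw [hu, show (g : G) * t * (g : G)⁻¹ * ((g : G) * t * (g : G)⁻¹) = (g : G) * (t * t) * (g : G)⁻¹ by group,
          htt, mul_one, mul_inv_cancel]
      have := eq_of_odd_sq hO huA (by
        rw [mul_assoc, ← mul_assoc t u t, hg'.eq, mul_assoc u t t, htt, mul_one, huu])
      rw [mul_eq_one_iff_eq_inv.1 this, Invol.inv_eq_self ht]
    have h := Invol.card_eq_centralizer_mul hiso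
    rw [Invol.isolated_order_formula hiso (s := ⟨v, hvM⟩) (by rw [Subgroup.orderOf_mk, hv])
      (Subtype.ext htv.eq.symm)] at h
    have h' := Nat.eq_of_mul_eq_mul_left Nat.card_pos h
    refine Eq.trans ?_ (h'.symm.trans (congrArg₂ (· * ·) ?_ (Eq.trans ?_ hs₂.symm)))
    · exact Nat.card_congr
        { toFun := fun k => ⟨⟨k.1, hOM k.2.1⟩, by rw [Subgroup.orderOf_mk]; exact odd_orderOf_of_mem hO k.2.1,
            Subtype.ext k.2.2⟩
          invFun := fun k => ⟨k.1.1, mem_of_odd_orderOf hsq k.1.2 (by rw [Subgroup.orderOf_coe]; exact k.2.1),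
            congrArg Subtype.val k.2.2⟩
          left_inv := fun k => rfl
          right_inv := fun k => rfl }
    · rw [hs₁]
      exact Nat.card_congr
        { toFun := fun k => ⟨k.1.1, mem_inf.2 ⟨mem_of_odd_orderOf hsq k.1.2 (by rw [Subgroup.orderOf_coe]; exact k.2.1),
            mem_centralizer_singleton_iff.2 (congrArg Subtype.val k.2.2.2.eq)⟩, congrArg Subtype.val k.2.2.1⟩
          invFun := fun k => ⟨⟨k.1, hOM k.2.1.1⟩, by rw [Subgroup.orderOf_mk]; exact odd_orderOf_of_mem hO k.2.1.1,
            Subtype.ext k.2.2, Subtype.ext (mem_centralizer_singleton_iff.1 k.2.1.2)⟩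
          left_inv := fun k => rfl
          right_inv := fun k => rfl }
    · exact Nat.card_congr
        { toFun := fun k => ⟨k.1.1, mem_inf.2 ⟨mem_of_odd_orderOf hsq k.1.2 (by rw [Subgroup.orderOf_coe]; exact k.2.1),
            mem_centralizer_singleton_iff.2 (congrArg Subtype.val k.2.2.2.eq)⟩, congrArg Subtype.val k.2.2.1⟩
          invFun := fun k => ⟨⟨k.1, hOM k.2.1.1⟩, by rw [Subgroup.orderOf_mk]; exact odd_orderOf_of_mem hO k.2.1.1,
            Subtype.ext k.2.2, Subtype.ext (mem_centralizer_singleton_iff.1 k.2.1.2)⟩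
          left_inv := fun k => rfl
          right_inv := fun k => rfl }

  rw [card_eq_fixed_mul_inverted O hO ht fun a ha => (inferInstance : O.Normal).conj_mem a ha t, hI, k1, k2]
  ring

/-- The fixed points of an ambient element on a subgroup of the normaliser. -/
theorem card_subgroupOf_inf {G : Type u} [Group G] {W N : Subgroup G} (h : W ≤ N) (s : Set N) :
    Nat.card ↥(W.subgroupOf N ⊓ centralizer s) = Nat.card ↥(W ⊓ centralizer (Subtype.val '' s)) :=
  Nat.card_congr
    { toFun := fun x => ⟨x.1.1, x.2.1, mem_centralizer_iff.2 (by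
        rintro _ ⟨y, hy, rfl⟩
        exact congrArg Subtype.val (mem_centralizer_iff.1 x.2.2 y hy))⟩
      invFun := fun x => ⟨⟨x.1, h x.2.1⟩, x.2.1, mem_centralizer_iff.2 fun y hy =>
        Subtype.ext (mem_centralizer_iff.1 x.2.2 y ⟨y, hy, rfl⟩)⟩
      left_inv := fun _ => rfl
      right_inv := fun _ => rfl }

/-- Brauer's order formula for two commuting involutions normalising an odd subgroup. -/
theorem four_count {G : Type u} [Group G] [Finite G] {W : Subgroup G} (hW : Odd (Nat.card W)) {t v : G}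
    (ht : orderOf t = 2) (hv : orderOf v = 2) (htv : Commute t v) (htW : t ∈ normalizer (W : Set G))
    (hvW : v ∈ normalizer (W : Set G)) :
    Nat.card W * Nat.card ↥(W ⊓ centralizer ({t, v} : Set G)) ^ 2 =
      Nat.card ↥(W ⊓ centralizer ({t} : Set G)) * (Nat.card ↥(W ⊓ centralizer ({v} : Set G)) *
        Nat.card ↥(W ⊓ centralizer ({v * t} : Set G))) := by
  have hle : W ≤ normalizer (W : Set G) := le_normalizer
  haveI : (W.subgroupOf (normalizer (W : Set G))).Normal := (normal_subgroupOf_iff_le_normalizer hle).2 le_rfl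
  have hc : Nat.card (W.subgroupOf (normalizer (W : Set G))) = Nat.card W :=
    Nat.card_congr (subgroupOfEquivOfLe hle).toEquiv
  have h := four_count_normal (W.subgroupOf (normalizer (W : Set G))) (hc.symm ▸ hW) (t := ⟨t, htW⟩)
    (v := ⟨v, hvW⟩) (by rw [Subgroup.orderOf_mk, ht]) (by rw [Subgroup.orderOf_mk, hv]) (Subtype.ext htv.eq)
  simpa only [hc, card_subgroupOf_inf hle, Set.image_pair, Set.image_singleton, Subgroup.coe_mul] using h

end Cfsg.Lib.J2Syl
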