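import Cfsg.Agent.Lib.J2Syl.FourCount
import Cfsg.Agent.Lib.AltEightSyl.SigGen

/-!
# The signalizer subgroup is invariant under the centraliser of the central involution

Let `W` be generated by the signalizers of the involutions of an elementary subgroup `A`, let `⟨z, q⟩ ≤ A`
and let `g` centralise `z`. If `x = g q g⁻¹` normalises `A` and balance holds from a four subgroup of `C_A(x)`
into `x` and into `z x`, then the order formula shows that `g` normalises `W`.
-/

set_option autoImplicit false
set_option linter.style.haveILetI false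
set_option linter.unusedSectionVars false

namespace Cfsg.Lib.J2Syl

open Cfsg Cfsg.Lib Subgroup
open Cfsg.Lib.AltEightSyl (sigGen)
open Cfsg.Lib.Syl34 (th th_le odd_th th_conj th_conj_iff cent_le_norm_th commute_of_mem_th)

universe u

variable {G : Type u} [Group G] [Finite G] {A : Subgroup G}

/-- A balanced elementary subgroup of rank at least three. -/
structure BalSub (A : Subgroup G) : Prop where
  card : 8 ≤ Nat.card A
  sq : ∀ a ∈ A, a * a = 1
  bal : ∀ a ∈ A, a ≠ 1 → ∀ b ∈ A, b ≠ 1 → th a ⊓ centralizer ({b} : Set G) ≤ th b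

namespace BalSub

variable (hA : BalSub A)
include hA

theorem commute {a b : G} (ha : a ∈ A) (hb : b ∈ A) : Commute a b := AltEightSyl.commute hA.sq ha hb

theorem order_two {a : G} (ha : a ∈ A) (ha1 : a ≠ 1) : orderOf a = 2 :=
  haveI : Fact (Nat.Prime 2) := ⟨Nat.prime_two⟩
  orderOf_eq_prime (by rw [pow_two]; exact hA.sq a ha) ha1

theorem setup : haveI : Fact (Nat.Prime 2) := ⟨Nat.prime_two⟩
    Sig.SSFT.Setup 2 A (fun a => th a) := by
  haveI : Fact (Nat.Prime 2) := ⟨Nat.prime_two⟩
  have hAn : ∀ a ∈ A, A ≤ normalizer (th a : Set G) := fun a ha x hx =>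
    cent_le_norm_th a (mem_centralizer_singleton_iff.2 (hA.commute hx ha).eq)
  refine ⟨⟨⟨⟨fun a b => Subtype.ext (hA.commute a.2 b.2)⟩⟩, fun a ha => by rw [pow_two]; exact hA.sq a ha⟩,
    by have := hA.card; norm_num; omega, ⟨fun a _ _ => th_le a, fun a _ _ => ?_,
      fun a ha _ b hbA x hx => (mem_normalizer_iff.1 (hAn a ha hbA) x).1 hx,
      fun a ha ha1 b hbA hb1 => hA.bal a ha ha1 b hbA hb1⟩, fun a _ _ => Syl34.solvable_th a⟩
  rw [← even_iff_two_dvd, Nat.not_even_iff_odd]; exact odd_th a

theorem le_norm_sig : A ≤ normalizer (sigGen A : Set G) := by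
  haveI : Fact (Nat.Prime 2) := ⟨Nat.prime_two⟩
  exact (setup hA).le_normalizer_mem (setup hA).closure_mem

theorem odd : Odd (Nat.card (sigGen A)) := by
  haveI : Fact (Nat.Prime 2) := ⟨Nat.prime_two⟩
  rw [← Nat.not_even_iff_odd, even_iff_two_dvd]
  exact (setup hA).closure_mem.2.1

theorem inf_centralizer {a : G} (ha : a ∈ A) (ha1 : a ≠ 1) :
    sigGen A ⊓ centralizer ({a} : Set G) = th a := by
  haveI : Fact (Nat.Prime 2) := ⟨Nat.prime_two⟩
  exact (setup hA).closure_inf_centralizer ha ha1

theorem le_of_four {E : Subgroup G} (hEA : E ≤ A) (hE : 4 ≤ Nat.card E) {K : Subgroup G}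
    (hK : ∀ a ∈ E, a ≠ 1 → th a ≤ K) : sigGen A ≤ K := by
  haveI : Fact (Nat.Prime 2) := ⟨Nat.prime_two⟩
  rw [sigGen, ← (setup hA).closure_eq hEA (by norm_num; exact hE)]
  exact iSup_le fun a => hK a a.2.1 a.2.2

omit hA in
theorem th_le_sigGen {a : G} (ha : a ∈ A) (ha1 : a ≠ 1) : th a ≤ sigGen A :=
  le_iSup (fun a : {a : G // a ∈ A ∧ a ≠ 1} => th (a : G)) ⟨a, ha, ha1⟩

omit hA in
theorem normalizer_le : normalizer (A : Set G) ≤ normalizer (sigGen A : Set G) := by
  intro g hg
  refine mem_normalizer_iff_map_conj_eq.2 (le_antisymm ?_ ?_)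
  · rw [sigGen, Subgroup.map_iSup]
    refine iSup_le fun a => le_trans ?_ (th_le_sigGen (a := g * a * g⁻¹) ((mem_normalizer_iff.1 hg _).1 a.2.1)
      (fun h => a.2.2 (conj_eq_one_iff.1 h)))
    rintro _ ⟨c, hc, rfl⟩
    exact th_conj g _ hc
  · refine iSup_le fun a c hc => ⟨g⁻¹ * c * g, ?_, by simp [mul_assoc]⟩
    have h := th_conj g⁻¹ (a : G) hc
    rw [inv_inv] at h
    refine th_le_sigGen (A := A) ((mem_normalizer_iff.1 hg _).2 (by simp [mul_assoc]; exact a.2.1))
      (fun h1 => a.2.2 ?_) h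
    calc (a : G) = g * (g⁻¹ * a * g) * g⁻¹ := by group
      _ = 1 := by rw [h1]; group

/-- The fixed points of an outside involution centralised by a four subgroup. -/
theorem inf_cent_le {x : G} {U : Subgroup G} (hUA : U ≤ A) (hU : 4 ≤ Nat.card U)
    (hcom : ∀ u ∈ U, Commute u x) (hbal : ∀ u ∈ U, u ≠ 1 → th u ⊓ centralizer ({x} : Set G) ≤ th x) :
    sigGen A ⊓ centralizer ({x} : Set G) ≤ th x := by
  haveI : Fact (Nat.Prime 2) := ⟨Nat.prime_two⟩
  set D := sigGen A ⊓ centralizer ({x} : Set G) with hD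
  have hUD : U ≤ normalizer (D : Set G) :=
    (le_inf (hUA.trans hA.le_norm_sig) fun u hu => le_normalizer (H := centralizer ({x} : Set G))
      (mem_centralizer_singleton_iff.2 (hcom u hu).eq)).trans inf_normalizer_le_normalizer_inf
  have hUel : Cfsg.IsElementaryAbelian 2 U :=
    ⟨⟨⟨fun a b => Subtype.ext (hA.commute (hUA a.2) (hUA b.2))⟩⟩, fun a ha => by rw [pow_two]; exact hA.sq a (hUA ha)⟩
  haveI := hUel.1
  have hcop : (Nat.card U).Coprime (Nat.card D) := by
    obtain ⟨n, hn⟩ := (IsPGroup.iff_card (p := 2)).1 (fun a : U => ⟨1, Subtype.ext (by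
      simpa [pow_two] using hA.sq a (hUA a.2))⟩)
    rw [hn]
    exact ((hA.odd.of_dvd_nat (card_dvd_of_le inf_le_left)).coprime_two_left).pow_left n
  refine (Coprime.le_iSup_centralizer_cocyclic (A := U) D hUD hcop).trans (iSup₂_le fun B hB => ?_)
  obtain ⟨b, hb, hb1⟩ := B.bot_or_exists_ne_one.resolve_left
    (Sig.SSFT.cocyclic_ne_bot (fun a ha => hUel.2 a ha) (by norm_num; exact hU) hB)
  refine le_trans ?_ (hbal b (hB.1 hb) hb1)
  refine le_inf ?_ (inf_le_left.trans inf_le_right)
  refine le_trans (le_inf (inf_le_left.trans inf_le_left) ?_) (hA.inf_centralizer (hUA (hB.1 hb)) hb1).le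
  exact inf_le_right.trans (centralizer_le (Set.singleton_subset_iff.2 hb))

omit hA in
theorem card_th_conj (g t : G) : Nat.card (th (g * t * g⁻¹)) = Nat.card (th t) :=
  Nat.card_congr
    { toFun := fun c => ⟨g⁻¹ * c.1 * g, (th_conj_iff g t).1 (by simpa [mul_assoc] using c.2)⟩
      invFun := fun c => ⟨g * c.1 * g⁻¹, th_conj g t c.2⟩
      left_inv := fun c => Subtype.ext (by simp [mul_assoc])
      right_inv := fun c => Subtype.ext (by simp [mul_assoc]) }

/-- The order formula puts `g` into the normaliser of the signalizer subgroup. -/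
theorem conj_mem {z q g : G} (hz : z ∈ A) (hz1 : z ≠ 1) (hq : q ∈ A) (hq1 : q ≠ 1) (hzq : q ≠ z)
    (hg : Commute g z) (hx : g * q * g⁻¹ ∈ normalizer (A : Set G))
    {U : Subgroup G} (hUA : U ≤ A) (hU : 4 ≤ Nat.card U) (hcom : ∀ u ∈ U, Commute u (g * q * g⁻¹))
    (hb1 : ∀ u ∈ U, u ≠ 1 → th u ⊓ centralizer ({g * q * g⁻¹} : Set G) ≤ th (g * q * g⁻¹))
    (hb2 : ∀ u ∈ U, u ≠ 1 → th u ⊓ centralizer ({g * (q * z) * g⁻¹} : Set G) ≤ th (g * (q * z) * g⁻¹)) :
    g ∈ normalizer (sigGen A : Set G) := by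
  set W := sigGen A with hW
  set x := g * q * g⁻¹ with hxdef
  have hgz : g * z * g⁻¹ = z := by rw [hg.eq, mul_inv_cancel_right]
  have hxz : g * (q * z) * g⁻¹ = x * z := by
    rw [hxdef, show g * (q * z) * g⁻¹ = g * q * g⁻¹ * (g * z * g⁻¹) by group, hgz]
  have hqz1 : q * z ≠ 1 := fun h => hzq (by
    rw [← mul_one q, ← hA.sq z hz, ← mul_assoc, h, one_mul])
  have hqzA : q * z ∈ A := mul_mem hq hz
  have hxo : orderOf x = 2 := by rw [hxdef, Invol.orderOf_conj_eq, hA.order_two hq hq1]
  have hcq : Commute q z := hA.commute hq hz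
  have hcx : Commute x z := by
    have := hcq.map (MulAut.conj g).toMonoidHom
    simpa [hxdef, hgz] using this
  have hzW : z ∈ normalizer (W : Set G) := hA.le_norm_sig hz
  have hxW : x ∈ normalizer (W : Set G) := normalizer_le hx
  have hxN : x * z ∈ normalizer (A : Set G) := mul_mem hx (le_normalizer hz)
  -- the two counts
  have e1 := four_count hA.odd (hA.order_two hz hz1) (hA.order_two hq hq1) hcq.symm hzW (hA.le_norm_sig hq)
  have e2 := four_count hA.odd (hA.order_two hz hz1) hxo hcx.symm hzW hxW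
  rw [hA.inf_centralizer hz hz1, hA.inf_centralizer hq hq1, hA.inf_centralizer hqzA hqz1] at e1
  rw [hA.inf_centralizer hz hz1] at e2
  have hd : ∀ y : G, W ⊓ centralizer ({z, y} : Set G) = th z ⊓ centralizer ({y} : Set G) := fun y => by
    rw [← hA.inf_centralizer hz hz1, inf_assoc]
    congr 1
    ext w
    simp [mem_centralizer_iff]
  rw [← hW, hd] at e1 e2
  have hx1 : ∀ c, g⁻¹ * c * g * q = g⁻¹ * (c * x) * g := fun c => by rw [hxdef]; group
  have hx2 : ∀ c, g⁻¹ * (x * c) * g = q * (g⁻¹ * c * g) := fun c => by rw [hxdef]; group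
  have hx3 : ∀ c, g * c * g⁻¹ * x = g * (c * q) * g⁻¹ := fun c => by rw [hxdef]; group
  have hx4 : ∀ c, g * (q * c) * g⁻¹ = x * (g * c * g⁻¹) := fun c => by rw [hxdef]; group
  have hdd : Nat.card ↥(th z ⊓ centralizer ({x} : Set G)) = Nat.card ↥(th z ⊓ centralizer ({q} : Set G)) :=
    Nat.card_congr
      { toFun := fun c => ⟨g⁻¹ * c.1 * g, (th_conj_iff g z).1 (by rw [hgz]; simpa [mul_assoc] using c.2.1),
          mem_centralizer_singleton_iff.2 (by
            have h := mem_centralizer_singleton_iff.1 c.2.2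
            rw [hx1, h, hx2])⟩
        invFun := fun c => ⟨g * c.1 * g⁻¹, by simpa [hgz] using th_conj g z c.2.1,
          mem_centralizer_singleton_iff.2 (by
            have h := mem_centralizer_singleton_iff.1 c.2.2
            rw [hx3, h, hx4])⟩
        left_inv := fun c => Subtype.ext (by simp [mul_assoc])
        right_inv := fun c => Subtype.ext (by simp [mul_assoc]) }
  have l1 : W ⊓ centralizer ({x} : Set G) ≤ th x := hA.inf_cent_le hUA hU hcom hb1
  have l2 : W ⊓ centralizer ({x * z} : Set G) ≤ th (x * z) := hA.inf_cent_le hUA hU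
    (fun u hu => (hcom u hu).mul_right (hA.commute (hUA hu) hz)) (by rw [← hxz]; exact hb2)
  have c1 : Nat.card (th x) = Nat.card (th q) := card_th_conj g q
  have c2 : Nat.card (th (x * z)) = Nat.card (th (q * z)) := by rw [← hxz]; exact card_th_conj g _
  have m1 := card_le_of_le l1
  have m2 := card_le_of_le l2
  rw [hdd] at e2
  have hprod : Nat.card ↥(W ⊓ centralizer ({x} : Set G)) * Nat.card ↥(W ⊓ centralizer ({x * z} : Set G)) =
      Nat.card (th x) * Nat.card (th (x * z)) := by
    rw [c1, c2]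
    exact Nat.eq_of_mul_eq_mul_left Nat.card_pos (e2.symm.trans e1)
  have f1 : W ⊓ centralizer ({x} : Set G) = th x := by
    refine eq_of_le_of_card_ge l1 ?_
    by_contra hlt
    rw [not_le] at hlt
    have h := Nat.mul_lt_mul_of_lt_of_le hlt m2 Nat.card_pos
    rw [hprod] at h
    exact lt_irrefl _ h
  have f2 : W ⊓ centralizer ({x * z} : Set G) = th (x * z) := by
    refine eq_of_le_of_card_ge l2 ?_
    by_contra hlt
    rw [not_le] at hlt
    have h := Nat.mul_lt_mul_of_le_of_lt m1 hlt Nat.card_pos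
    rw [hprod] at h
    exact lt_irrefl _ h
  have main : W ≤ W.comap (MulAut.conj g).toMonoidHom := by
    let F : Subgroup G :=
      { carrier := {a | a = 1 ∨ a = z ∨ a = q ∨ a = q * z}
        one_mem' := Or.inl rfl
        mul_mem' := by
          have hz2 := hA.sq z hz
          have hq2 := hA.sq q hq
          have hc : z * q = q * z := hcq.eq.symm
          have h1 : q * z * q = z := by rw [mul_assoc, hc, ← mul_assoc, hq2, one_mul]
          have h2 : q * z * z = q := by rw [mul_assoc, hz2, mul_one]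
          have h3 : q * (q * z) = z := by rw [← mul_assoc, hq2, one_mul]
          have h4 : z * (q * z) = q := by rw [← mul_assoc, hc, h2]
          intro a b ha hb
          rcases ha with ha | ha | ha | ha <;> rcases hb with hb | hb | hb | hb <;>
            simp [ha, hb, hz2, hq2, hc, h1, h2, h3, h4, hA.sq _ hqzA]
        inv_mem' := by
          intro a ha
          have haA : a ∈ A := by
            rcases ha with ha | ha | ha | ha <;> rw [ha] <;> first | exact one_mem A | assumption
          simpa [inv_eq_of_mul_eq_one_right (hA.sq a haA)] using ha }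
    have hF4 : 4 ≤ Nat.card F := by
      classical
      have hs : ({1, z, q, q * z} : Finset G).card = 4 := by
        simp [hz1.symm, hq1.symm, hqz1.symm, hzq.symm, hz1, hq1]
      have hle : (({1, z, q, q * z} : Finset G) : Set G) ⊆ (F : Set G) := by
        intro a ha
        show a = 1 ∨ a = z ∨ a = q ∨ a = q * z
        simpa using ha
      rw [← hs, ← Set.ncard_coe_finset]
      refine le_trans (Set.ncard_le_ncard hle (Set.toFinite _)) ?_
      rw [← Nat.card_coe_set_eq]; rfl
    refine hA.le_of_four (E := F) ?_ hF4 ?_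
    · intro a ha
      rcases ha with ha | ha | ha | ha <;> rw [ha] <;> first | exact one_mem A | assumption
    · intro a ha ha1 c hc
      rcases ha with ha | ha | ha | ha <;> rw [ha] at hc
      · exact absurd ha ha1
      all_goals show g * c * g⁻¹ ∈ W
      · exact th_le_sigGen hz hz1 (by simpa [hgz] using th_conj g _ hc)
      · exact (f1.ge (th_conj g _ hc)).1
      · exact (f2.ge (by rw [← hxz]; exact th_conj g _ hc)).1
  refine mem_normalizer_iff_map_conj_eq.2 (eq_of_le_of_card_ge (map_le_iff_le_comap.2 main) ?_)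
  rw [card_map_of_injective (MulAut.conj g).injective]

end BalSub

end Cfsg.Lib.J2Syl
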